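import Mathlib

/-!
# Completion of a finite algebra as a tensor product

`R → S` a ring map, `I₀ ⊆ R`, `I ⊆ S` ideals with `I₀ S ⊆ I` and `I ^ k ⊆ I₀ S`; `R` Noetherian and `S` a
finite `R`-module.  Then `R̂ ⊗_R S → Ŝ` (`I₀`-adic, resp. `I`-adic completion) is bijective.
-/

set_option autoImplicit false
universe u

open TensorProduct

namespace Groth.Agent.H78.ComplFinite

variable {R S : Type u} [CommRing R] [CommRing S] [Algebra R S] (I₀ : Ideal R) (I : Ideal S)

lemma pow_le_comap (h1 : I₀.map (algebraMap R S) ≤ I) (n : ℕ) :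
    I₀ ^ n ≤ (I ^ n).comap (Algebra.ofId R S) := by
  have : (I₀ ^ n).map (algebraMap R S) ≤ I ^ n := by
    rw [Ideal.map_pow]; exact Ideal.pow_right_mono h1 n
  exact Ideal.map_le_iff_le_comap.mp this

/-- the map `R/I₀^n → S/I^n` -/
noncomputable def fn (h1 : I₀.map (algebraMap R S) ≤ I) (n : ℕ) : R ⧸ I₀ ^ n →ₐ[R] S ⧸ I ^ n :=
  Ideal.quotientMapₐ (I ^ n) (Algebra.ofId R S) (pow_le_comap I₀ I h1 n)

lemma fn_mk (h1 : I₀.map (algebraMap R S) ≤ I) (n : ℕ) (r : R) :
    fn I₀ I h1 n (Ideal.Quotient.mk (I₀ ^ n) r) = Ideal.Quotient.mk (I ^ n) (algebraMap R S r) := rfl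

lemma psi_compat (h1 : I₀.map (algebraMap R S) ≤ I) {m n : ℕ} (hle : m ≤ n) :
    (Ideal.Quotient.factorₐ R (Ideal.pow_le_pow_right hle)).comp
      ((fn I₀ I h1 n).comp (AdicCompletion.evalₐ I₀ n)) =
      (fn I₀ I h1 m).comp (AdicCompletion.evalₐ I₀ m) := by
  ext x
  induction x using AdicCompletion.induction_on with
  | h a =>
  simp only [AlgHom.comp_apply, AdicCompletion.evalₐ_mk, fn_mk]
  change Ideal.Quotient.mk (I ^ m) (algebraMap R S (a n)) = _
  rw [Ideal.Quotient.eq, ← map_sub]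
  apply pow_le_comap I₀ I h1 m
  have := a.property hle
  rw [SModEq.sub_mem] at this
  have h5 : a m - a n ∈ I₀ ^ m := by simpa using this
  have h6 : a n - a m = -(a m - a n) := by ring
  rw [h6]
  exact (I₀ ^ m).neg_mem h5

/-- the canonical map of completions `R̂ → Ŝ` -/
noncomputable def psi (h1 : I₀.map (algebraMap R S) ≤ I) :
    AdicCompletion I₀ R →ₐ[R] AdicCompletion I S :=
  AdicCompletion.liftAlgHom I (fun n => (fn I₀ I h1 n).comp (AdicCompletion.evalₐ I₀ n))
    (fun hle => psi_compat I₀ I h1 hle)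

lemma evalₐ_psi (h1 : I₀.map (algebraMap R S) ≤ I) (n : ℕ) (x : AdicCompletion I₀ R) :
    AdicCompletion.evalₐ I n (psi I₀ I h1 x) = fn I₀ I h1 n (AdicCompletion.evalₐ I₀ n x) :=
  AdicCompletion.evalₐ_liftAlgHom I _ (fun hle => psi_compat I₀ I h1 hle) n x

/-- the comparison map `R̂ ⊗_R S → Ŝ` -/
noncomputable def Phi (h1 : I₀.map (algebraMap R S) ≤ I) :
    AdicCompletion I₀ R ⊗[R] S →ₐ[R] AdicCompletion I S :=
  Algebra.TensorProduct.lift (psi I₀ I h1)
    ((Algebra.ofId S (AdicCompletion I S)).restrictScalars R) (fun _ _ => Commute.all _ _)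

lemma Phi_tmul (h1 : I₀.map (algebraMap R S) ≤ I) (c : AdicCompletion I₀ R) (s : S) :
    Phi I₀ I h1 (c ⊗ₜ[R] s) = psi I₀ I h1 c * algebraMap S (AdicCompletion I S) s := by
  simp [Phi]

/-- the quotient map `S/I₀^n S → S/I^n` -/
noncomputable def qn (h1 : I₀.map (algebraMap R S) ≤ I) (n : ℕ) :
    (S ⧸ (I₀ ^ n • ⊤ : Submodule R S)) →ₗ[R] (S ⧸ I ^ n) :=
  Submodule.liftQ _ ((Ideal.Quotient.mkₐ R (I ^ n)).toLinearMap) (by
    intro y hy
    rw [LinearMap.mem_ker]
    change Ideal.Quotient.mk (I ^ n) y = 0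
    rw [Ideal.Quotient.eq_zero_iff_mem]
    refine Submodule.smul_induction_on hy (fun a ha t _ => ?_) (fun x y hx hy => ?_)
    · rw [Algebra.smul_def]
      exact Ideal.mul_mem_right _ _ (pow_le_comap I₀ I h1 n ha)
    · exact (I ^ n).add_mem hx hy)

lemma qn_mk (h1 : I₀.map (algebraMap R S) ≤ I) (n : ℕ) (s : S) :
    qn I₀ I h1 n (Submodule.Quotient.mk s) = Ideal.Quotient.mk (I ^ n) s := rfl

/-- key compatibility between `Phi` and `ofTensorProduct` -/
theorem evalₐ_Phi (h1 : I₀.map (algebraMap R S) ≤ I) (n : ℕ) (x : AdicCompletion I₀ R ⊗[R] S) :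
    AdicCompletion.evalₐ I n (Phi I₀ I h1 x) =
      qn I₀ I h1 n ((AdicCompletion.ofTensorProduct I₀ S x).val n) := by
  induction x using TensorProduct.induction_on with
  | zero => simp
  | add x y hx hy =>
    rw [map_add, map_add, hx, hy, map_add, AdicCompletion.val_add]
    exact (map_add (qn I₀ I h1 n) _ _).symm
  | tmul b t =>
    rw [Phi_tmul, AdicCompletion.ofTensorProduct_tmul, AdicCompletion.smul_eval, map_mul, evalₐ_psi]
    induction b using AdicCompletion.induction_on with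
    | h a =>
    rw [AdicCompletion.evalₐ_mk, fn_mk, AdicCompletion.mk_apply_coe]
    change _ = qn I₀ I h1 n (Ideal.Quotient.mk (I₀ ^ n • ⊤ : Ideal R) (a n) •
      Submodule.Quotient.mk (p := (I₀ ^ n • ⊤ : Submodule R S)) t)
    rw [AdicCompletion.mk_smul_mk, ← Submodule.Quotient.mk_smul, qn_mk, Algebra.smul_def, map_mul]
    rfl

lemma cofinal (h2 : ∃ k, I ^ k ≤ I₀.map (algebraMap R S)) (n : ℕ) :
    ∃ N : ℕ, ∀ x ∈ I ^ N, x ∈ (I₀ ^ n • ⊤ : Submodule R S) := by
  obtain ⟨k, hk⟩ := h2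
  refine ⟨k * n, fun x hx => ?_⟩
  rw [Ideal.smul_top_eq_map, Submodule.restrictScalars_mem, Ideal.map_pow]
  rw [pow_mul] at hx
  exact Ideal.pow_right_mono hk n hx

/-- `R̂ ⊗_R S → Ŝ` is bijective -/
theorem Phi_bijective [IsNoetherianRing R] [Module.Finite R S] (h1 : I₀.map (algebraMap R S) ≤ I)
    (h2 : ∃ k, I ^ k ≤ I₀.map (algebraMap R S)) : Function.Bijective (Phi I₀ I h1) := by
  have hφ := AdicCompletion.ofTensorProduct_bijective_of_finite_of_isNoetherian I₀ S
  have hcof := cofinal I₀ I h2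
  constructor
  · rw [injective_iff_map_eq_zero]
    intro x hx
    apply hφ.1
    rw [map_zero]
    ext n
    obtain ⟨N', hN'⟩ := hcof n
    obtain ⟨t, ht⟩ := Submodule.Quotient.mk_surjective _
      ((AdicCompletion.ofTensorProduct I₀ S x).val (max N' n))
    have h1' := evalₐ_Phi I₀ I h1 (max N' n) x
    rw [hx, map_zero, ← ht, qn_mk, eq_comm, Ideal.Quotient.eq_zero_iff_mem] at h1'
    have h2' : t ∈ I ^ N' := Ideal.pow_le_pow_right (le_max_left _ _) h1'
    have h3 := hN' _ h2'
    have h4 := (AdicCompletion.ofTensorProduct I₀ S x).property (le_max_right N' n)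
    rw [AdicCompletion.val_zero, ← h4, ← ht]
    change Submodule.Quotient.mk t = 0
    exact (Submodule.Quotient.mk_eq_zero _).mpr h3
  · intro b
    induction b using AdicCompletion.induction_on with
    | h a =>
    choose N' hN' using hcof
    let N : ℕ → ℕ := fun n => n + ∑ i ∈ Finset.range (n + 1), N' i
    have hNn : ∀ n, n ≤ N n := fun n => Nat.le_add_right _ _
    have hNN' : ∀ n, N' n ≤ N n := fun n =>
      le_trans (Finset.single_le_sum (f := N') (fun _ _ => Nat.zero_le _)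
        (Finset.mem_range.mpr (Nat.lt_succ_self n))) (Nat.le_add_left _ _)
    have hNmono : ∀ n, N n ≤ N (n + 1) := by
      intro n
      simp only [N]
      rw [Finset.sum_range_succ _ (n + 1)]
      omega
    let s : AdicCompletion.AdicCauchySequence I₀ S :=
      AdicCompletion.AdicCauchySequence.mk I₀ S (fun n => a (N n)) (by
        intro n
        rw [SModEq.sub_mem]
        apply hN' n
        apply Ideal.pow_le_pow_right (hNN' n)
        have := a.property (hNmono n)
        rw [SModEq.sub_mem] at this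
        simpa using this)
    obtain ⟨x, hx⟩ := hφ.2 (AdicCompletion.mk I₀ S s)
    refine ⟨x, ?_⟩
    apply AdicCompletion.ext_evalₐ
    intro n
    rw [evalₐ_Phi, hx, AdicCompletion.mk_apply_coe, Submodule.mkQ_apply, qn_mk,
      AdicCompletion.evalₐ_mk]
    change Ideal.Quotient.mk (I ^ n) (a (N n)) = _
    rw [Ideal.Quotient.eq]
    have := a.property (hNn n)
    rw [SModEq.sub_mem] at this
    have h5 : a n - a (N n) ∈ I ^ n := by simpa using this
    have h6 : a (N n) - a n = -(a n - a (N n)) := by ring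
    rw [h6]
    exact (I ^ n).neg_mem h5

end Groth.Agent.H78.ComplFinite
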