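import Mathlib

/-!
# Jacobson radicals of a finite algebra over a semi-local Noetherian ring
-/

set_option autoImplicit false
universe u

namespace Groth.Agent.H78.ComplFinite

variable {R S : Type u} [CommRing R] [CommRing S] [Algebra R S]

lemma map_jacobson_le [Algebra.IsIntegral R S] :
    (Ideal.jacobson (⊥ : Ideal R)).map (algebraMap R S) ≤ Ideal.jacobson ⊥ := by
  rw [Ideal.map_le_iff_le_comap]
  intro x hx
  rw [Ideal.mem_comap, Ideal.jacobson, Ideal.mem_sInf]
  rintro m ⟨-, hm⟩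
  have : (m.comap (algebraMap R S)).IsMaximal := Ideal.isMaximal_comap_of_isIntegral_of_isMaximal m
  exact (Ideal.mem_sInf.mp hx) ⟨bot_le, this⟩

lemma isMaximal_of_jacobson_le [Finite (MaximalSpectrum R)] (p : Ideal R) [p.IsPrime]
    (h : Ideal.jacobson (⊥ : Ideal R) ≤ p) : p.IsMaximal := by
  classical
  haveI := Fintype.ofFinite (MaximalSpectrum R)
  have h1 : (Finset.univ : Finset (MaximalSpectrum R)).inf (fun m => m.asIdeal) ≤ p := by
    refine le_trans (le_sInf ?_) h
    rintro m ⟨-, hm⟩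
    exact Finset.inf_le (f := fun m : MaximalSpectrum R => m.asIdeal) (Finset.mem_univ ⟨m, hm⟩)
  obtain ⟨m, -, hm⟩ := (Ideal.IsPrime.inf_le' ‹p.IsPrime›).mp h1
  have := m.isMaximal.eq_of_le (Ideal.IsPrime.ne_top ‹_›) hm
  rw [← this]
  exact m.isMaximal

lemma exists_pow_jacobson_le [IsNoetherianRing R] [Finite (MaximalSpectrum R)] [Module.Finite R S] :
    ∃ k, (Ideal.jacobson (⊥ : Ideal S)) ^ k ≤
      (Ideal.jacobson (⊥ : Ideal R)).map (algebraMap R S) := by
  set K := (Ideal.jacobson (⊥ : Ideal R)).map (algebraMap R S) with hK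
  have hS : IsNoetherianRing S := IsNoetherianRing.of_finite R S
  obtain ⟨k, hk⟩ := Ideal.exists_radical_pow_le_of_fg K (IsNoetherian.noetherian _)
  refine ⟨k, le_trans (Ideal.pow_right_mono ?_ k) hk⟩
  rw [Ideal.radical_eq_sInf]
  refine le_sInf ?_
  rintro P ⟨hKP, hP⟩
  have hPm : P.IsMaximal := by
    have h0 : Ideal.jacobson (⊥ : Ideal R) ≤ P.comap (algebraMap R S) :=
      Ideal.map_le_iff_le_comap.mp hKP
    have hp : (P.comap (algebraMap R S)).IsMaximal := isMaximal_of_jacobson_le _ h0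
    exact Ideal.isMaximal_of_isIntegral_of_isMaximal_comap P hp
  exact sInf_le ⟨bot_le, hPm⟩

end Groth.Agent.H78.ComplFinite
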